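import Groth.Agent.TriCat.DerivedCoproducts
import Groth.Agent.TriCat.Resolve
import Groth.Agent.CohD7.KInj
import Groth.Prelude.Def_CohDer
import Mathlib.Algebra.Homology.DerivedCategory.KInjective

/-!
# Maps from an object with exact sections into coproducts of bounded below complexes

An object `G` whose maps into coproducts have finite support and which has a class of acyclic objects
containing the coproducts of injectives is compact for uniformly bounded below families in the
derived category.
-/

set_option linter.style.haveILetI false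
set_option backward.isDefEq.respectTransparency false

universe t w w' v u v' u'

open CategoryTheory CategoryTheory.Limits

namespace Groth.Agent.CompactGen

section PartProj

variable {C : Type*} [Category C] [HasZeroMorphisms C] {J : Type t} (M : J → C) [HasCoproduct M]

open Classical in
/-- The idempotent cutting out a finite partial sum. -/
noncomputable def partProj (F : Finset J) : ∐ M ⟶ ∐ M :=
  Sigma.desc fun i => if i ∈ F then Sigma.ι M i else 0

lemma ι_partProj_mem {F : Finset J} {i : J} (h : i ∈ F) : Sigma.ι M i ≫ partProj M F = Sigma.ι M i := by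
  simp [partProj, h]

lemma ι_partProj_not_mem {F : Finset J} {i : J} (h : i ∉ F) : Sigma.ι M i ≫ partProj M F = 0 := by
  simp [partProj, h]

lemma partProj_comp {F G : Finset J} (h : F ⊆ G) : partProj M F ≫ partProj M G = partProj M F := by
  refine Sigma.hom_ext _ _ fun i => ?_
  by_cases hi : i ∈ F
  · rw [← Category.assoc, ι_partProj_mem M hi, ι_partProj_mem M (h hi)]
  · rw [← Category.assoc, ι_partProj_not_mem M hi, zero_comp]

/-- Natural in the summands. -/
lemma sigmaMap_partProj {N : J → C} [HasCoproduct N] (g : ∀ j, M j ⟶ N j) (F : Finset J) :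
    partProj M F ≫ Limits.Sigma.map g = Limits.Sigma.map g ≫ partProj N F := by
  refine Sigma.hom_ext _ _ fun i => ?_
  by_cases hi : i ∈ F
  · rw [← Category.assoc, ι_partProj_mem M hi, Limits.Sigma.ι_map_assoc, ι_partProj_mem N hi,
      Limits.Sigma.ι_map]
  · rw [← Category.assoc, ι_partProj_not_mem M hi, zero_comp, Limits.Sigma.ι_map_assoc,
      ι_partProj_not_mem N hi, comp_zero]

/-- Compatible with comparison maps. -/
lemma sigmaComparison_partProj {D : Type*} [Category D] [HasZeroMorphisms D] (H : C ⥤ D)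
    [H.PreservesZeroMorphisms] [HasCoproduct fun j => H.obj (M j)] (F : Finset J) :
    sigmaComparison H M ≫ H.map (partProj M F) =
      partProj (fun j => H.obj (M j)) F ≫ sigmaComparison H M := by
  refine Sigma.hom_ext _ _ fun i => ?_
  rw [ι_comp_sigmaComparison_assoc, ← H.map_comp]
  by_cases hi : i ∈ F
  · rw [ι_partProj_mem M hi, ← Category.assoc, ι_partProj_mem _ hi, ι_comp_sigmaComparison]
  · rw [ι_partProj_not_mem M hi, ← Category.assoc, ι_partProj_not_mem _ hi, zero_comp, H.map_zero]

end PartProj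

section Fix

variable {D : Type*} [Category D] [Preadditive D] {J : Type t} (M : J → D) [HasCoproduct M]

/-- All maps from an object are supported in finite partial sums. -/
def FixAt (A : D) : Prop := ∀ φ : A ⟶ ∐ M, ∃ F : Finset J, φ ≫ partProj M F = φ

variable {M}

lemma FixAt.of_iso {A B : D} (e : A ≅ B) (h : FixAt M A) : FixAt M B := fun φ => by
  obtain ⟨F, hF⟩ := h (e.hom ≫ φ)
  exact ⟨F, (cancel_epi e.hom).1 (by rw [← Category.assoc, hF])⟩

/-- Enlarging a partial sum keeps a map fixed. -/
lemma fix_mono {A : D} {φ : A ⟶ ∐ M} {F G : Finset J} (h : F ⊆ G) (hF : φ ≫ partProj M F = φ) :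
    φ ≫ partProj M G = φ := by
  rw [← hF, Category.assoc, partProj_comp M h, hF]

/-- Finite supports pass to reindexed families. -/
lemma FixAt.reindex {J' : Type*} {M' : J' → D} [HasCoproduct M'] (e : J ≃ J')
    (w : ∀ j, M' (e j) ≅ M j) {A : D} (h : FixAt M A) : FixAt M' A := fun φ => by
  classical
  let c := Sigma.whiskerEquiv (f := M) (g := M') e w
  obtain ⟨F, hF⟩ := h (φ ≫ c.inv)
  refine ⟨F.map e.toEmbedding, (cancel_mono c.inv).1 ?_⟩
  have hc : partProj M F ≫ c.hom = c.hom ≫ partProj M' (F.map e.toEmbedding) := by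
    refine Sigma.hom_ext _ _ fun i => ?_
    have hi : Sigma.ι M i ≫ c.hom = (w i).inv ≫ Sigma.ι M' (e i) := by simp [c]
    by_cases h : i ∈ F
    · rw [← Category.assoc, ι_partProj_mem M h, ← Category.assoc, hi, Category.assoc,
        ι_partProj_mem M' (by simp [h])]
    · rw [← Category.assoc, ι_partProj_not_mem M h, zero_comp, ← Category.assoc, hi, Category.assoc,
        ι_partProj_not_mem M' (by simp [h]), comp_zero]
  rw [Category.assoc, ← hF]
  simp only [Category.assoc]
  rw [← cancel_mono c.hom]
  simp only [Category.assoc, hc, Iso.inv_hom_id, Category.comp_id, Iso.inv_hom_id_assoc]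

/-- Finite supports give the bijection defining compactness. -/
lemma bijective_homSumToHomCoprod {K : D} {ι : Type*} (N : ι → D) [HasCoproduct N]
    (h : FixAt N K) : Function.Bijective (CohDer.homSumToHomCoprod K N) := by
  classical
  let p : ∀ j, ∐ N ⟶ N j := fun j =>
    Sigma.desc fun i => if h : i = j then eqToHom (congrArg N h) else 0
  have hp : ∀ j, Sigma.ι N j ≫ p j = 𝟙 _ := fun j => by simp [p]
  have hp' : ∀ i j, i ≠ j → Sigma.ι N i ≫ p j = 0 := fun i j hij => by simp [p, hij]
  have hof : ∀ i (g : K ⟶ N i),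
      CohDer.homSumToHomCoprod K N (DirectSum.of _ i g) = g ≫ Sigma.ι N i := fun i g => by
    simp [CohDer.homSumToHomCoprod, Preadditive.rightComp]
  refine ⟨(injective_iff_map_eq_zero _).2 fun x hx => ?_, fun φ => ?_⟩
  · ext j
    have key : ∀ y, CohDer.homSumToHomCoprod K N y ≫ p j = y j := fun y => by
      induction y using DirectSum.induction_on with
      | zero => simp
      | of i g =>
        rw [hof, Category.assoc]
        by_cases hij : i = j
        · subst hij
          simp [hp]
        · rw [hp' i j hij, comp_zero, DirectSum.of_eq_of_ne _ _ _ (Ne.symm hij)]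
      | add a b ha hb => rw [map_add, Preadditive.add_comp, ha, hb]; rfl
    rw [← key x, hx, zero_comp]
    rfl
  · obtain ⟨F, hF⟩ := h φ
    refine ⟨∑ i ∈ F, DirectSum.of _ i (φ ≫ p i), ?_⟩
    rw [map_sum]
    simp only [hof, Category.assoc]
    rw [← Preadditive.comp_sum]
    refine (congrArg (φ ≫ ·) ?_).trans hF
    refine Sigma.hom_ext _ _ fun i => ?_
    rw [Preadditive.comp_sum]
    by_cases hi : i ∈ F
    · rw [ι_partProj_mem N hi, Finset.sum_eq_single i (fun b _ hb => by
        rw [← Category.assoc, hp' i b (Ne.symm hb), zero_comp]) (fun h => absurd hi h),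
        ← Category.assoc, hp, Category.id_comp]
    · rw [ι_partProj_not_mem N hi]
      exact Finset.sum_eq_zero fun b hb => by
        rw [← Category.assoc, hp' i b (fun h => hi (h ▸ hb)), zero_comp]

end Fix

section Bounded

/-- A complex is acyclic iff its cohomology objects vanish. -/
lemma acyclicIffIsZero {C : Type u} [Category.{v} C] [Abelian C] {ι : Type*} {c : ComplexShape ι}
    (K : HomologicalComplex C c) : K.Acyclic ↔ ∀ i, IsZero (K.homology i) := by
  simp [HomologicalComplex.acyclic_iff, HomologicalComplex.exactAt_iff_isZero_homology]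

/-- `Q` preserves coproducts. -/
lemma preservesColimit_Q {A : Type u} [Category.{v} A] [Abelian A] [HasDerivedCategory.{w} A] {J : Type t}
    [HasColimitsOfShape (Discrete J) A] [HasExactColimitsOfShape (Discrete J) A]
    (K : J → CochainComplex A ℤ) :
    PreservesColimit (Discrete.functor K)
      (DerivedCategory.Q : CochainComplex A ℤ ⥤ DerivedCategory A) := by
  let Q : CochainComplex A ℤ ⥤ DerivedCategory A := DerivedCategory.Q
  have hdesc : ∀ {T : DerivedCategory A} (k : ∀ j, Q.obj (K j) ⟶ T),
      ∃ d : Q.obj (∐ K) ⟶ T, ∀ j, Q.map (Sigma.ι K j) ≫ d = k j := by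
    intro T k
    let eT := Q.objObjPreimageIso T
    choose Z s hs f hf using fun j => DerivedCategory.right_fac (k j ≫ eT.inv)
    haveI : IsIso (Q.map (Limits.Sigma.map s)) := (DerivedCategory.isIso_Q_map_iff_quasiIso _ _).2
      (TriCat.quasiIso_sigmaMap s fun j => (DerivedCategory.isIso_Q_map_iff_quasiIso _ _).1 (hs j))
    refine ⟨inv (Q.map (Limits.Sigma.map s)) ≫ Q.map (Sigma.desc f) ≫ eT.hom, fun j => ?_⟩
    haveI : IsIso (Q.map (s j)) := hs j
    rw [← cancel_epi (Q.map (s j)), ← Q.map_comp_assoc, ← Sigma.ι_map s j, Q.map_comp_assoc,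
      IsIso.hom_inv_id_assoc, ← Q.map_comp_assoc, Sigma.ι_desc]
    have h := congrArg (fun g => Q.map (s j) ≫ g ≫ eT.hom) (hf j)
    simp only [Category.assoc, Iso.inv_hom_id, Category.comp_id] at h
    rw [h]
    exact (IsIso.hom_inv_id_assoc _ _).symm
  refine preservesColimit_of_preserves_colimit_cocone (coproductIsCoproduct K) ?_
  refine (Cofan.isColimitMapCoconeEquiv Q _ _).symm ?_
  exact Cofan.IsColimit.mk _ (fun t => (hdesc t.inj).choose)
    (fun t j => (hdesc t.inj).choose_spec j)
    (fun t m hm => sub_eq_zero.1 (TriCat.sigma_Q_hom_ext _ fun j => by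
      rw [Preadditive.comp_sub, sub_eq_zero]
      exact (hm j).trans ((hdesc t.inj).choose_spec j).symm))

variable {A : Type u} [Category.{v} A] [Abelian A] {J : Type t}

/-- The input: finite support of maps out of `G` into coproducts, and a class of objects acyclic for
`Hom(G, -)`. -/
structure Setup (G : A) (J : Type t) [HasColimitsOfShape (Discrete J) A] where
  Q : A → Prop
  iso : ∀ {M N : A}, (M ≅ N) → Q M → Q N
  inj : ∀ (M : A) [Injective M], Q M
  sum : ∀ (M : J → A) [∀ j, Injective (M j)], Q (∐ M)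
  X₃ : ∀ {S : ShortComplex A}, S.ShortExact → Q S.X₁ → Q S.X₂ → Q S.X₃
  lift : ∀ {S : ShortComplex A}, S.ShortExact → Q S.X₁ → ∀ φ : G ⟶ S.X₃, ∃ ψ : G ⟶ S.X₂, ψ ≫ S.g = φ
  fix : ∀ (M : J → A) (g : G ⟶ ∐ M), ∃ F : Finset J, g ≫ partProj M F = g

variable [HasColimitsOfShape (Discrete J) A] {G : A} (hG : Setup G J)

lemma Setup.zero {M : A} (h : IsZero M) : hG.Q M :=
  haveI : Injective M := h.injective
  hG.inj M

include hG

variable [HasExactColimitsOfShape (Discrete J) A] [EnoughInjectives A] [HasDerivedCategory.{w} A]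

/-- The short exact sequence of cycles at an exact degree. -/
lemma shortExact_cycles (C : CochainComplex A ℤ) (i : ℤ) (h : IsZero (C.homology (i + 1))) :
    ∃ (w : C.iCycles i ≫ C.toCycles i (i + 1) = 0),
      (ShortComplex.mk (C.iCycles i) (C.toCycles i (i + 1)) w).ShortExact := by
  have w : C.iCycles i ≫ C.toCycles i (i + 1) = 0 := by
    rw [← cancel_mono (C.iCycles (i + 1)), Category.assoc, C.toCycles_i, C.iCycles_d, zero_comp]
  refine ⟨w, { exact := ?_, mono_f := inferInstance, epi_g := ?_ }⟩
  · refine ShortComplex.exact_of_f_is_kernel _ (KernelFork.IsLimit.ofι _ _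
      (fun {Z} k hk => C.liftCycles k (i + 1) (by simp) ?_) (fun _ _ => C.liftCycles_i _ _ _ _)
      (fun _ _ m hm => (cancel_mono (C.iCycles i)).1 (hm.trans (C.liftCycles_i _ _ _ _).symm)))
    have := congrArg (· ≫ C.iCycles (i + 1)) hk
    simpa using this
  · refine Preadditive.epi_of_cancel_zero _ fun {Z} g hg => ?_
    obtain ⟨l, hl⟩ := CokernelCofork.IsColimit.desc' (C.homologyIsCokernel i (i + 1) (by simp)) g hg
    rw [← hl, show l = 0 from h.eq_of_src _ _, comp_zero]

lemma cycles_Q (C : CochainComplex A ℤ) (hC : C.Acyclic) (n : ℤ) [C.IsStrictlyGE n]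
    (hq : ∀ k, hG.Q (C.X k)) (i : ℤ) : hG.Q (C.cycles i) := by
  have hz : ∀ i < n, hG.Q (C.cycles i) := fun i hi =>
    hG.zero (IsZero.of_mono (C.iCycles i) (C.isZero_of_isStrictlyGE n i hi))
  by_cases hi : i < n
  · exact hz i hi
  · obtain ⟨k, rfl⟩ := Int.le.dest (show n - 1 ≤ i by omega)
    clear hi
    induction k with
    | zero => exact hz _ (by omega)
    | succ k ih =>
      obtain ⟨w, hS⟩ := shortExact_cycles hG C (n - 1 + k) ((acyclicIffIsZero _).1 hC _)
      have := hG.X₃ hS ih (hq _)
      rw [show n - 1 + ((k + 1 : ℕ) : ℤ) = n - 1 + k + 1 by push_cast; omega]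
      exact this

/-- Cocycles on a compact quasi-separated open of a bounded below acyclic complex of acyclic modules
are coboundaries. -/
lemma exists_boundary (C : CochainComplex A ℤ) (hC : C.Acyclic) (n : ℤ)
    [C.IsStrictlyGE n] (hq : ∀ k, hG.Q (C.X k)) (i : ℤ) (x : G ⟶ C.X (i + 1))
    (hx : x ≫ C.d (i + 1) (i + 1 + 1) = 0) : ∃ y : G ⟶ C.X i, y ≫ C.d i (i + 1) = x := by
  obtain ⟨w, hS⟩ := shortExact_cycles hG C i ((acyclicIffIsZero _).1 hC _)
  obtain ⟨y, hy⟩ := hG.lift hS (cycles_Q hG C hC n hq i) 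
    (C.liftCycles x (i + 1 + 1) (by simp) hx)
  refine ⟨y, ?_⟩
  rw [← C.toCycles_i i (i + 1), ← Category.assoc]
  exact (congrArg (· ≫ C.iCycles (i + 1)) hy).trans (C.liftCycles_i _ _ _ _)

/-- A cocycle of `L` comes from one of `K` up to a boundary, when the cokernel is acyclic. -/
lemma exists_cocycle_lift {K L : CochainComplex A ℤ} (t : K ⟶ L) [∀ m, Mono (t.f m)]
    [QuasiIso t] (n : ℤ) [K.IsStrictlyGE n] [L.IsStrictlyGE n] (hK : ∀ m, hG.Q (K.X m))
    (hL : ∀ m, hG.Q (L.X m)) (i : ℤ) (g : G ⟶ L.X (i + 1))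
    (hg : g ≫ L.d (i + 1) (i + 1 + 1) = 0) :
    ∃ (z : G ⟶ K.X (i + 1)) (b : G ⟶ L.X i),
      z ≫ K.d (i + 1) (i + 1 + 1) = 0 ∧ z ≫ t.f (i + 1) + b ≫ L.d i (i + 1) = g := by
  haveI : Mono t := HomologicalComplex.mono_of_mono_f _ inferInstance
  let S : ShortComplex (CochainComplex A ℤ) :=
    ShortComplex.mk t (cokernel.π t) (cokernel.condition t)
  have hS : S.ShortExact :=
    { exact := ShortComplex.exact_of_g_is_cokernel _ (cokernelIsCokernel t) }
  have hdeg : ∀ m, (S.map (HomologicalComplex.eval A (ComplexShape.up ℤ) m)).ShortExact :=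
    fun m => hS.map_of_exact _
  let C := cokernel t
  haveI : C.IsStrictlyGE n := (CochainComplex.isStrictlyGE_iff _ n).2 fun m hm =>
    haveI := (hdeg m).epi_g
    IsZero.of_epi ((cokernel.π t).f m) (L.isZero_of_isStrictlyGE n m hm)
  have hC : C.Acyclic := by
    have := (DerivedCategory.isIso_Q_map_iff_quasiIso (C := A) t).2 inferInstance
    have hz : IsZero (DerivedCategory.Q.obj C) :=
      Pretriangulated.Triangle.isZero₃_of_isIso₁ _ (DerivedCategory.triangleOfSES_distinguished hS) this
    exact (acyclicIffIsZero _).2 fun m =>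
      ((DerivedCategory.homologyFunctor A m).map_isZero hz).of_iso
        ((DerivedCategory.homologyFunctorFactors A m).app C).symm
  have hq : ∀ m, hG.Q (C.X m) := fun m => hG.X₃ (hdeg m) (hK m) (hL m)
  obtain ⟨y, hy⟩ := exists_boundary hG C hC n hq i (g ≫ (cokernel.π t).f (i + 1))
    (by rw [Category.assoc, (cokernel.π t).comm, reassoc_of% hg, zero_comp])
  obtain ⟨b, hb⟩ := hG.lift (hdeg i) (hK i) y
  have h0 : (g - b ≫ L.d i (i + 1)) ≫ (cokernel.π t).f (i + 1) = 0 := by
    rw [Preadditive.sub_comp, Category.assoc, ← (cokernel.π t).comm, ← Category.assoc,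
      show b ≫ (cokernel.π t).f i = y from hb, hy, sub_self]
  let z := (hdeg (i + 1)).fIsKernel
  obtain ⟨z, hz⟩ := KernelFork.IsLimit.lift' (hdeg (i + 1)).fIsKernel (g - b ≫ L.d i (i + 1)) h0
  have hz' : z ≫ t.f (i + 1) = g - b ≫ L.d i (i + 1) := hz
  refine ⟨z, b, ?_, by rw [hz', sub_add_cancel]⟩
  rw [← cancel_mono (t.f (i + 1 + 1)), Category.assoc, ← t.comm, reassoc_of% hz',
    Preadditive.sub_comp, hg, Category.assoc, L.d_comp_d, comp_zero, sub_zero, zero_comp]

/-- Maps from shifts of `j_! O_W` into a coproduct of bounded below complexes of injectives are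
supported in finite partial sums. -/
theorem exists_fix_bounded (K : J → CochainComplex A ℤ) (n : ℤ)
    [∀ j, (K j).IsStrictlyGE n] [∀ j m, Injective ((K j).X m)] (m : ℤ)
    (φ : DerivedCategory.Q.obj ((HomologicalComplex.single A (ComplexShape.up ℤ) m).obj
      (G)) ⟶ DerivedCategory.Q.obj (∐ K)) :
    ∃ F : Finset J, φ ≫ DerivedCategory.Q.map (partProj K F) = φ := by
  let ev := fun k => HomologicalComplex.eval A (ComplexShape.up ℤ) k
  let e : ∀ k, ∐ (fun j => (K j).X k) ≅ (∐ K).X k := fun k => (PreservesCoproduct.iso (ev k) K).symm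
  haveI : (∐ K).IsStrictlyGE n := (CochainComplex.isStrictlyGE_iff _ n).2 fun k hk => by
    refine IsZero.of_iso ?_ (e k).symm
    rw [IsZero.iff_id_eq_zero]
    exact Sigma.hom_ext _ _ fun j =>
      (CochainComplex.isZero_of_isStrictlyGE (K j) n k hk).eq_of_src _ _
  have hK : ∀ k, hG.Q ((∐ K).X k) := fun k =>
    hG.iso (e k) (hG.sum _)
  obtain ⟨L, t, hL, hinj, hmono, hqis⟩ := TriCat.exists_quasiIso_resolution (A := A) Injective
    ⟨_, isZero_zero A, IsZero.injective (isZero_zero _)⟩
    (fun M => ⟨Injective.under M, Injective.ι M, inferInstance, inferInstance⟩) (∐ K) n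
  haveI := hL; haveI := hmono; haveI := hqis
  haveI : ∀ k, Injective (L.X k) := hinj
  haveI : L.IsKInjective := CochainComplex.isKInjective_of_injective _ n
  obtain ⟨g, hg⟩ := CohD7.exists_Q_map (φ ≫ DerivedCategory.Q.map t)
  obtain ⟨i, rfl⟩ : ∃ i, m = i + 1 := ⟨m - 1, by omega⟩
  let sx := HomologicalComplex.singleObjXSelf (ComplexShape.up ℤ) (i + 1) (G)
  obtain ⟨z, b, hz, hzb⟩ := exists_cocycle_lift hG t n hK
    (fun k => hG.inj (L.X k)) i (sx.inv ≫ g.f (i + 1)) (by
      rw [Category.assoc, g.comm]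
      simp)
  let z' : (HomologicalComplex.single A (ComplexShape.up ℤ) (i + 1)).obj (G) ⟶ ∐ K :=
    HomologicalComplex.mkHomFromSingle z fun k hk => by
      obtain rfl : i + 1 + 1 = k := hk
      exact hz
  have hz' : DerivedCategory.Q.map z' = φ := by
    haveI := (DerivedCategory.isIso_Q_map_iff_quasiIso (C := A) t).2 inferInstance
    rw [← cancel_mono (DerivedCategory.Q.map t), ← hg, ← Functor.map_comp]
    refine (DerivedCategory.Q_map_eq_of_homotopy _
      { hom := fun p q => if h : p = i + 1 ∧ q = i then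
          (((HomologicalComplex.single A (ComplexShape.up ℤ) (i + 1)).obj (G)).XIsoOfEq
            h.1).hom ≫ sx.hom ≫ b ≫ (L.XIsoOfEq h.2).inv else 0
        zero := fun p q hpq => dif_neg fun h => hpq (by rw [h.1, h.2]; rfl)
        comm := fun p => ?_ }).symm
    by_cases hp : p = i + 1
    · subst hp
      rw [dNext_eq _ (show (ComplexShape.up ℤ).Rel (i + 1) (i + 1 + 1) from rfl),
        prevD_eq _ (show (ComplexShape.up ℤ).Rel i (i + 1) from rfl),
        HomologicalComplex.single_obj_d, zero_comp, zero_add, dif_pos (And.intro rfl rfl),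
        HomologicalComplex.comp_f,
        HomologicalComplex.mkHomFromSingle_f]
      simp only [HomologicalComplex.XIsoOfEq_rfl, Iso.refl_hom, Iso.refl_inv, Category.id_comp,
        Category.assoc]
      have h := congrArg (sx.hom ≫ ·) hzb
      simp only [Preadditive.comp_add, Iso.hom_inv_id_assoc] at h
      exact h.symm.trans (add_comm _ _)
    · exact (HomologicalComplex.isZero_single_obj_X _ _ _ _ hp).eq_of_src _ _
  obtain ⟨F, hF⟩ := hG.fix (fun j => (K j).X (i + 1))  (z ≫ (e (i + 1)).inv)
  refine ⟨F, ?_⟩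
  rw [← hz', ← Functor.map_comp]
  congr 1
  refine HomologicalComplex.from_single_hom_ext ?_
  rw [HomologicalComplex.comp_f, HomologicalComplex.mkHomFromSingle_f, Category.assoc]
  refine congrArg (sx.hom ≫ ·) ?_
  have hc : (e (i + 1)).hom ≫ (partProj K F).f (i + 1) =
      partProj (fun j => (K j).X (i + 1)) F ≫ (e (i + 1)).hom := sigmaComparison_partProj K (ev (i + 1)) F
  rw [← (Iso.eq_inv_comp _).2 hc |>.symm]
  rw [← Category.assoc, ← Category.assoc, hF, Category.assoc, Iso.inv_hom_id, Category.comp_id]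

/-- `G[-m]` is compact for families bounded below by complexes. -/
theorem fixAt_single (M : J → DerivedCategory A) [HasCoproduct M] (a : ℤ) (hM : ∀ j, (M j).IsGE a) (m : ℤ) :
    FixAt M (DerivedCategory.Q.obj ((HomologicalComplex.single A (ComplexShape.up ℤ) m).obj G)) := by
  have hres : ∀ i, ∃ (K : CochainComplex A ℤ), K.IsStrictlyGE a ∧ (∀ m, Injective (K.X m)) ∧
      Nonempty (DerivedCategory.Q.obj K ≅ M i) := fun i => by
    haveI := hM i
    obtain ⟨L, hL, ⟨e⟩⟩ := DerivedCategory.exists_iso_Q_obj_of_isGE (M i) a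
    haveI := hL
    obtain ⟨I, s, hI, hinj, -, hs⟩ := TriCat.exists_quasiIso_resolution (A := A) Injective
      ⟨_, isZero_zero A, IsZero.injective (isZero_zero _)⟩
      (fun M => ⟨Injective.under M, Injective.ι M, inferInstance, inferInstance⟩) L a
    haveI := hs
    exact ⟨I, hI, hinj, ⟨(asIso (DerivedCategory.Q.map s)).symm ≪≫ e.symm⟩⟩
  choose K hge hinj eK using hres
  haveI := hge
  haveI : ∀ j m, Injective ((K j).X m) := hinj
  haveI := preservesColimit_Q K
  haveI : HasCoproduct fun j => DerivedCategory.Q.obj (K j) :=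
    hasColimit_of_iso (Discrete.natIso fun j => (eK j.as).some :
      Discrete.functor (fun j => DerivedCategory.Q.obj (K j)) ≅ Discrete.functor M)
  suffices h : FixAt (fun j => DerivedCategory.Q.obj (K j))
      (DerivedCategory.Q.obj ((HomologicalComplex.single A (ComplexShape.up ℤ) m).obj G)) from
    h.reindex (Equiv.refl J) fun j => (eK j).some.symm
  intro φ
  obtain ⟨F, hF⟩ := exists_fix_bounded hG K a m (φ ≫ sigmaComparison DerivedCategory.Q K)
  refine ⟨F, (cancel_mono (sigmaComparison DerivedCategory.Q K)).1 ?_⟩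
  rw [Category.assoc, ← sigmaComparison_partProj K DerivedCategory.Q F, ← Category.assoc, hF]

end Bounded

/-- The degree zero `G` is compact for uniformly bounded below families. -/
theorem bijective_singleFunctor {A : Type u} [Category.{v} A] [Abelian A] [EnoughInjectives A]
    [HasDerivedCategory.{w} A] {J : Type w} [HasColimitsOfShape (Discrete J) A]
    [HasExactColimitsOfShape (Discrete J) A] {G : A} (hG : Setup G J)
    (M : J → DerivedCategory A) [HasCoproduct M] (a : ℤ) (hM : ∀ j, (M j).IsGE a) :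
    Function.Bijective (CohDer.homSumToHomCoprod ((DerivedCategory.singleFunctor A 0).obj G) M) :=
  bijective_homSumToHomCoprod M
    ((fixAt_single hG M a hM 0).of_iso ((DerivedCategory.singleFunctorIsoCompQ A 0).app G).symm)

end Groth.Agent.CompactGen
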