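import Groth.Agent.CompactGen.Bounded
import Groth.Agent.TriCat.KInjRes
import Groth.Agent.TriCat.Sums
import Mathlib.Algebra.Homology.DerivedCategory.TStructure

/-!
# Compactness in finite cohomological dimension
-/

set_option linter.style.haveILetI false
set_option backward.isDefEq.respectTransparency false

universe t w v u

open CategoryTheory CategoryTheory.Limits CategoryTheory.Pretriangulated

namespace Groth.Agent.CompactGen

variable {A : Type u} [Category.{v} A] [Abelian A] {G : A}

/-- Vanishing of higher acyclicity classes above a bound, with dimension shifting along injectives. -/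
structure Dim (G : A) (d : ℕ) where
  P : ℕ → A → Prop
  top : ∀ (n : ℕ) (M : A), d < n → P n M
  shift : ∀ {S : ShortComplex A} (n : ℕ), S.ShortExact → Injective S.X₂ → P (n + 2) S.X₁ → P (n + 1) S.X₃
  lift : ∀ {S : ShortComplex A}, S.ShortExact → P 1 S.X₁ → ∀ φ : G ⟶ S.X₃, ∃ ψ : G ⟶ S.X₂, ψ ≫ S.g = φ

lemma shortExact_cycles' (C : CochainComplex A ℤ) (i : ℤ) (h : IsZero (C.homology (i + 1))) :
    ∃ (w : C.iCycles i ≫ C.toCycles i (i + 1) = 0),
      (ShortComplex.mk (C.iCycles i) (C.toCycles i (i + 1)) w).ShortExact := by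
  have w : C.iCycles i ≫ C.toCycles i (i + 1) = 0 := by
    rw [← cancel_mono (C.iCycles (i + 1)), Category.assoc, C.toCycles_i, C.iCycles_d, zero_comp]
  refine ⟨w, { exact := ?_, mono_f := inferInstance, epi_g := ?_ }⟩
  · refine ShortComplex.exact_of_f_is_kernel _ (KernelFork.IsLimit.ofι _ _
      (fun {Z} k hk => C.liftCycles k (i + 1) (by simp) ?_) (fun _ _ => C.liftCycles_i _ _ _ _)
      (fun _ _ m hm => (cancel_mono (C.iCycles i)).1 (hm.trans (C.liftCycles_i _ _ _ _).symm)))
    have := congrArg (· ≫ C.iCycles (i + 1)) hk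
    simpa using this
  · refine Preadditive.epi_of_cancel_zero _ fun {Z} g hg => ?_
    obtain ⟨l, hl⟩ := CokernelCofork.IsColimit.desc' (C.homologyIsCokernel i (i + 1) (by simp)) g hg
    rw [← hl, show l = 0 from h.eq_of_src _ _, comp_zero]

variable [HasDerivedCategory.{w} A] {d : ℕ} (hd : Dim G d)

include hd in
/-- Maps from `G` into sufficiently negative complexes of injectives vanish. -/
theorem eq_zero_of_kInjective (J : CochainComplex A ℤ) [∀ n, Injective (J.X n)] [J.IsKInjective] (b : ℤ)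
    (hb : b + d + 2 ≤ 0) (hJ : ∀ i, b < i → IsZero (J.homology i))
    (φ : DerivedCategory.Q.obj ((HomologicalComplex.single A (ComplexShape.up ℤ) 0).obj G) ⟶
      DerivedCategory.Q.obj J) : φ = 0 := by
  obtain ⟨g, rfl⟩ := CohD7.exists_Q_map φ
  have hZ : ∀ (k n : ℕ) (i : ℤ), n + k = d → i = -1 - (n : ℤ) → hd.P (n + 1) (J.cycles i) := fun k => by
    induction k with
    | zero => exact fun n i hn hi => hd.top _ _ (by omega)
    | succ k ih =>
      intro n i hn hi
      obtain ⟨i, rfl⟩ : ∃ j, i = j + 1 := ⟨i - 1, by omega⟩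
      obtain ⟨w, hS⟩ := shortExact_cycles' J i (hJ _ (by omega))
      exact hd.shift n hS (inferInstanceAs (Injective (J.X i))) (ih (n + 1) i (by omega) (by omega))
  obtain ⟨w, hS⟩ := shortExact_cycles' J (-1) (hJ _ (by omega))
  let sx := HomologicalComplex.singleObjXSelf (ComplexShape.up ℤ) 0 G
  let z : G ⟶ J.cycles (-1 + 1) :=
    J.liftCycles (sx.inv ≫ g.f 0 ≫ (J.XIsoOfEq (show (0 : ℤ) = -1 + 1 by omega)).hom) (-1 + 1 + 1)
      (by simp) (by
        simp only [Category.assoc, HomologicalComplex.XIsoOfEq_hom_comp_d, HomologicalComplex.Hom.comm]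
        simp)
  obtain ⟨t, ht⟩ := hd.lift hS (hZ d 0 (-1) (by omega) (by simp)) z
  have hy' : t ≫ J.d (-1) (-1 + 1) =
      sx.inv ≫ g.f 0 ≫ (J.XIsoOfEq (show (0 : ℤ) = -1 + 1 by omega)).hom := by
    rw [← J.toCycles_i (-1) (-1 + 1), ← Category.assoc, show t ≫ J.toCycles (-1) (-1 + 1) = z from ht]
    exact J.liftCycles_i _ _ _ _
  refine (DerivedCategory.Q_map_eq_of_homotopy _
    { hom := fun p q => if h : p = 0 ∧ q = -1 then
        (((HomologicalComplex.single A (ComplexShape.up ℤ) 0).obj G).XIsoOfEq h.1).hom ≫ sx.hom ≫ t ≫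
            (J.XIsoOfEq h.2).inv else 0
      zero := fun p q hpq => dif_neg fun h => hpq (by rw [h.1, h.2]; rfl)
      comm := fun p => ?_ }).trans (Functor.map_zero _ _ _)
  by_cases hp : p = 0
  · subst hp
    rw [dNext_eq _ (show (ComplexShape.up ℤ).Rel (0 : ℤ) 1 from rfl),
      prevD_eq _ (show (ComplexShape.up ℤ).Rel (-1 : ℤ) 0 from rfl),
      HomologicalComplex.single_obj_d, zero_comp, zero_add, dif_pos (And.intro rfl rfl),
      HomologicalComplex.zero_f, add_zero]
    have h := congrArg (fun s => sx.hom ≫ s ≫ (J.XIsoOfEq (show (0 : ℤ) = -1 + 1 by omega)).inv) hy'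
    simp only [Category.assoc, Iso.hom_inv_id_assoc, Iso.hom_inv_id, Category.comp_id,
      HomologicalComplex.d_comp_XIsoOfEq_inv] at h
    simp only [HomologicalComplex.XIsoOfEq_rfl, Iso.refl_hom, Iso.refl_inv, Category.id_comp,
      Category.assoc]
    exact h.symm
  · exact (HomologicalComplex.isZero_single_obj_X _ _ _ _ hp).eq_of_src _ _

include hd in
/-- `G` sees finitely many summands of any family, in finite cohomological dimension. -/
theorem bijective_of_dim [IsGrothendieckAbelian.{w} A] {J : Type w} [HasColimitsOfShape (Discrete J) A]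
    [HasExactColimitsOfShape (Discrete J) A] (hG : Setup G J) (M : J → DerivedCategory A) [HasCoproduct M] :
    Function.Bijective (CohDer.homSumToHomCoprod ((DerivedCategory.singleFunctor A 0).obj G) M) := by
  haveI : HasColimitsOfShape (Discrete J) (DerivedCategory A) := TriCat.hasColimitsOfShape_derivedCategory
  let b : ℤ := -(d : ℤ) - 2
  choose A' B hA hB f g h hT using fun j =>
    DerivedCategory.TStructure.t.exists_triangle (M j) b (b + 1) rfl
  choose K eK hK using hA
  haveI : ∀ j, (K j).IsStrictlyLE b := hK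
  haveI := preservesColimit_Q K
  haveI hle : (∐ A').IsLE b := by
    haveI : (∐ K).IsStrictlyLE b := (CochainComplex.isStrictlyLE_iff _ b).2 fun k hk => by
      refine IsZero.of_iso ?_ (PreservesCoproduct.iso
        (HomologicalComplex.eval A (ComplexShape.up ℤ) k) K)
      rw [IsZero.iff_id_eq_zero]
      exact Sigma.hom_ext _ _ fun j => ((K j).isZero_of_isStrictlyLE b k hk).eq_of_src _ _
    exact ⟨⟨∐ K, Limits.Sigma.mapIso eK ≪≫ (PreservesCoproduct.iso DerivedCategory.Q K).symm,
      inferInstance⟩⟩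
  let S : Triangle (DerivedCategory A) := Triangle.mk (Limits.Sigma.map f) (Limits.Sigma.map g)
    (Sigma.desc fun j => h j ≫ (Sigma.ι A' j)⟦(1 : ℤ)⟧')
  have hS : S ∈ distTriang (DerivedCategory A) := TriCat.distinguished_of_isSum
    (fun j => Triangle.mk (f j) (g j) (h j)) hT S
    (fun j =>
      { hom₁ := Sigma.ι A' j
        hom₂ := Sigma.ι M j
        hom₃ := Sigma.ι B j
        comm₁ := (Limits.Sigma.ι_map f j).symm
        comm₂ := (Limits.Sigma.ι_map g j).symm
        comm₃ := (Sigma.ι_desc (fun j => h j ≫ (Sigma.ι A' j)⟦(1 : ℤ)⟧') j).symm })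
    (TriCat.isSum_sigma A') (TriCat.isSum_sigma M) (TriCat.isSum_sigma B)
  let e := (DerivedCategory.singleFunctorIsoCompQ A 0).app G
  refine bijective_homSumToHomCoprod M (FixAt.of_iso e.symm ?_)
  intro φ
  obtain ⟨F, hF⟩ := fixAt_single hG B (b + 1) (fun j => ⟨hB j⟩) 0 (φ ≫ S.mor₂)
  obtain ⟨ψ, hψ⟩ := Triangle.coyoneda_exact₂ _ hS (φ - φ ≫ partProj M F) (by
    rw [Preadditive.sub_comp, Category.assoc, sub_eq_zero]
    exact (((congrArg (φ ≫ ·) (sigmaMap_partProj M g F)).trans (Category.assoc _ _ _).symm).trans hF).symm)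
  refine ⟨F, (sub_eq_zero.1 (hψ.trans ?_)).symm⟩
  obtain ⟨I, s, hI, hs, -, hinj⟩ :=
    TriCat.exists_kInjective_resolution'.{w} (DerivedCategory.Q.objPreimage (∐ A'))
  haveI := hI
  haveI := hinj
  haveI := (DerivedCategory.isIso_Q_map_iff_quasiIso (C := A) s).2 hs
  let eI : ∐ A' ≅ DerivedCategory.Q.obj I :=
    (DerivedCategory.Q.objObjPreimageIso (∐ A')).symm ≪≫ asIso (DerivedCategory.Q.map s)
  have h0 : ψ ≫ eI.hom = 0 := eq_zero_of_kInjective hd I b (by omega) (fun i hi =>
    ((DerivedCategory.isZero_of_isLE (∐ A') b i hi).of_iso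
      ((DerivedCategory.homologyFunctor A i).mapIso eI.symm)).of_iso
      ((DerivedCategory.homologyFunctorFactors A i).app I).symm) _
  have : ψ = 0 := by rw [← cancel_mono eI.hom, h0, zero_comp]
  rw [this, zero_comp]

end Groth.Agent.CompactGen
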